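import Cfsg.Agent.Lib.CAInv.CaseI
import Cfsg.Agent.Lib.Zass.Classif

/-!
# The action on Sylow subgroups is a Zassenhaus group; identification with `SL(2, K)`
-/

set_option autoImplicit false
set_option linter.unusedSectionVars false
set_option linter.style.haveILetI false
set_option linter.unusedVariables false

open scoped MatrixGroups

namespace Cfsg.Agent.Lib.CAInv.CaseI2

open Cfsg MulAction
open Cfsg.Agent.Lib.Zass.Basic Cfsg.Agent.Lib.Zass.Stab Cfsg.Agent.Lib.Zass.Infl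
  Cfsg.Agent.Lib.Zass.Sharp3 Cfsg.Agent.Lib.Zass.Root
open Act Basic Basic.Ctx CaseI

/-- The case of a sharply triply transitive group, keeping track of the characteristic. -/
theorem sharp3_char_two {G Ω : Type*} [Group G] [Finite G] [MulAction G Ω] [Fintype Ω]
    (hZ : IsZassenhausGroup G Ω) {a b : Ω} (hab : a ≠ b)
    (hd : Nat.card (E (G := G) a b) + 2 = Fintype.card Ω) (hodd : Odd (Nat.card (E (G := G) a b))) :
    ∃ (K : Type) (_ : Field K) (_ : Fintype K), ringChar K = 2 ∧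
      Nonempty (G ≃* Matrix.ProjectiveSpecialLinearGroup (Fin 2) K) := by
  classical
  haveI := Fintype.ofFinite G
  obtain ⟨h3, -⟩ := Cfsg.Agent.Lib.Zass.AbFinal.sharp3_of_eq hZ hab hd
  have S : Sharp3 G Ω := by
    refine ⟨?_, hZ.2.2.1⟩
    intro x y z x' y' z' hxy hyz hxz hxy' hyz' hxz'
    let t : Fin 3 ↪ Ω := ⟨![x, y, z], by
      intro i j hij
      fin_cases i <;> fin_cases j <;> simp_all⟩
    let t' : Fin 3 ↪ Ω := ⟨![x', y', z'], by
      intro i j hij
      fin_cases i <;> fin_cases j <;> simp_all⟩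
    obtain ⟨g, hg⟩ := h3.exists_smul_eq t t'
    refine ⟨g, ?_, ?_, ?_⟩
    · exact congrArg (fun w : Fin 3 ↪ Ω => w 0) hg
    · exact congrArg (fun w : Fin 3 ↪ Ω => w 1) hg
    · exact congrArg (fun w : Fin 3 ↪ Ω => w 2) hg
  have faith : ∀ g g' : G, (∀ y : Ω, g • y = g' • y) → g = g' := by
    intro g g' h
    have := hZ.1
    exact FaithfulSMul.eq_of_smul_eq_smul h
  obtain ⟨c, hca, hcb⟩ := exists_third hZ a b
  obtain ⟨A, iA, iF, R, p, j, hR1, hR2, hp, hj, hcard, hcA, hexp⟩ :=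
    S.exists_rootData faith (inf := a) (o := b) (c := c) (Ne.symm hab) hca (Ne.symm hcb)
  have hj0 : j ≠ 0 := by omega
  have heven : Even (p ^ j) := by
    obtain ⟨k, hk⟩ := hodd
    exact ⟨k + 1, by omega⟩
  have hp2 : p = 2 := by
    have h2 : 2 ∣ p ^ j := heven.two_dvd
    exact ((Nat.prime_dvd_prime_iff_eq Nat.prime_two hp).mp (Nat.prime_two.dvd_of_dvd_pow h2)).symm
  subst hp2
  have hneg : ∀ x : A, -x = x := by
    intro x
    have := hexp x
    rw [two_nsmul] at this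
    exact neg_eq_of_add_eq_zero_left this
  have hnt : Nontrivial A := by
    apply Finite.one_lt_card_iff_nontrivial.mp
    rw [hcA]
    exact Nat.one_lt_pow hj0 (by norm_num)
  obtain ⟨x, hx⟩ := exists_ne (0 : A)
  obtain ⟨K, i1, i2, hK, ⟨φ⟩⟩ := Cfsg.Agent.Lib.Zass.PrimeDeg.main_two S R hneg hx
  have hchar : ringChar K = 2 := by
    apply FiniteField.even_card_iff_char_two.mpr
    rw [hK, hcA]
    exact Nat.even_iff.mp (Nat.even_pow.mpr ⟨even_two, hj0⟩)
  obtain ⟨ψ⟩ := Cfsg.Agent.Lib.Zass.Classif.pgl_equiv_psl hchar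
  exact ⟨K, i1, i2, hchar, ⟨φ.trans ψ⟩⟩

/-- The centre of `SL(2, K)` is trivial in characteristic two. -/
theorem center_sl_eq_bot (K : Type*) [Field K] [CharP K 2] :
    Subgroup.center (SL(2, K)) = ⊥ := by
  rw [Subgroup.eq_bot_iff_forall]
  intro A hA
  obtain ⟨r, hr, hrA⟩ := Matrix.SpecialLinearGroup.mem_center_iff.mp hA
  have hr2 : r ^ 2 = 1 := by simpa using hr
  have hr1 : r = 1 := by
    have h1 : (r + 1) ^ 2 = 0 := by
      have h2 : (2 : K) = 0 := CharTwo.two_eq_zero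
      calc (r + 1) ^ 2 = r ^ 2 + 2 * r + 1 := by ring
        _ = 1 + 0 * r + 1 := by rw [hr2, h2]
        _ = 2 := by ring
        _ = 0 := h2
    have h3 : r + 1 = 0 := pow_eq_zero_iff (two_ne_zero) |>.mp h1
    have h4 : r = -1 := eq_neg_of_add_eq_zero_left h3
    rw [h4, CharTwo.neg_eq]
  apply Subtype.ext
  rw [← hrA, hr1]
  simp

/-- `PSL(2, K)` is `SL(2, K)` in characteristic two. -/
theorem psl_equiv_sl (K : Type*) [Field K] [CharP K 2] :
    Nonempty (Matrix.ProjectiveSpecialLinearGroup (Fin 2) K ≃* SL(2, K)) := by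
  unfold Matrix.ProjectiveSpecialLinearGroup
  exact ⟨(QuotientGroup.quotientMulEquivOfEq (center_sl_eq_bot K)).trans
    (QuotientGroup.quotientBot)⟩

variable {G : Type*} [Group G] [Finite G]

variable (c : Ctx G) (hTI : ∀ P Q : Sylow 2 G, P ≠ Q → ∀ x, x ∈ K c P → x ∈ K c Q → x = 1)
  (hN : ∀ N : Subgroup G, N.Normal → Odd (Nat.card N) → N = ⊥)
include c hTI hN

/-- The action on the Sylow subgroups. -/
theorem isZass : IsZassenhausGroup G (Sylow 2 G) := by
  classical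
  have hone := onePt c.hyp
  obtain ⟨P, Q₀, hPQ₀⟩ : ∃ P Q : Sylow 2 G, P ≠ Q := by
    haveI := c.nn
    exact exists_pair_ne _
  have hfix3 : ∀ g : G, ∀ a b c' : Sylow 2 G, a ≠ b → b ≠ c' → a ≠ c' → g • a = a → g • b = b →
      g • c' = c' → g = 1 := by
    intro g a b c' hab hbc hac ha hb hc
    exact D_unique c hTI hab hac hbc ⟨ha, hb⟩ hc
  refine ⟨?_, ?_, hfix3, ?_, ?_⟩
  · -- faithful
    constructor
    intro g₁ g₂ h
    obtain ⟨t, ht, ht2⟩ := c.exists_invol P
    set Q₁ := t • Q₀ with hQ₁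
    have htP : t • P = P := (smul_eq_iff_of_invol c.hyp ht2 P).mpr ht
    have hPQ₁ : P ≠ Q₁ := by
      intro h1
      apply hPQ₀
      have : t • P = t • Q₀ := htP.trans h1
      exact smul_left_cancel t this
    have hQ₀₁ : Q₀ ≠ Q₁ := by
      intro h1
      have h2 : t • Q₀ = Q₀ := h1.symm
      exact hPQ₀ (hone.eq_of_fix ht2 htP h2)
    have h1 : g₁⁻¹ * g₂ = 1 := by
      apply hfix3 _ P Q₀ Q₁ hPQ₀ hQ₀₁ hPQ₁
      · rw [mul_smul, ← h, inv_smul_smul]
      · rw [mul_smul, ← h, inv_smul_smul]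
      · rw [mul_smul, ← h, inv_smul_smul]
    exact inv_mul_eq_one.mp h1
  · -- two-transitive
    apply is_two_pretransitive_iff.mpr
    intro a b c' d hab hcd
    obtain ⟨g₁, hg₁⟩ := MulAction.exists_smul_eq G a c'
    have h1 : c' ≠ g₁ • b := by
      rw [← hg₁]
      exact fun h => hab (smul_left_cancel g₁ h)
    obtain ⟨h', hh', hh'd⟩ := exists_CP_smul c hTI h1 hcd
    refine ⟨h' * g₁, ?_, ?_⟩
    · rw [mul_smul, hg₁]
      exact CP_le_stabilizer c' hh'
    · rw [mul_smul, hh'd]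
  · -- two-point stabiliser is non-trivial
    have hD1 : 1 < Nat.card (D G P Q₀) := by
      rw [card_D_eq c hTI hPQ₀]
      exact c.one_lt_card_Inv P
    rw [Finite.one_lt_card_iff_nontrivial] at hD1
    obtain ⟨⟨c₀, hc₀⟩, hc₀1⟩ := exists_ne (1 : D G P Q₀)
    exact ⟨c₀, fun h => hc₀1 (Subtype.ext h), P, Q₀, hPQ₀, hc₀.1, hc₀.2⟩
  · -- no regular normal subgroup
    intro N hNn hNt
    by_contra hcon
    push Not at hcon
    have hinj : Function.Bijective (fun n : N => (n : G) • P) := by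
      constructor
      · intro n m hnm
        have hnm' : (n : G) • P = (m : G) • P := hnm
        have h1 : (n⁻¹ * m) ∈ stabilizer N P := by
          rw [mem_stabilizer_iff]
          show ((n⁻¹ * m : N) : G) • P = P
          rw [Subgroup.coe_mul, mul_smul, ← hnm', Subgroup.coe_inv, inv_smul_smul]
        rw [hcon P, Subgroup.mem_bot] at h1
        exact inv_mul_eq_one.mp h1
      · intro Q
        obtain ⟨n, hn⟩ := hNt.exists_smul_eq P Q
        exact ⟨n, hn⟩
    have hcard : Nat.card N = Nat.card (Sylow 2 G) := Nat.card_eq_of_bijective _ hinj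
    have hodd : Odd (Nat.card N) := by
      rw [hcard, ← card_CP_add_one c hTI P]
      apply Even.add_one
      haveI := c.nontrivial_sylow P
      have h1 := two_dvd_card_of_nontrivial (P.isPGroup' : IsPGroup 2 P)
      have h2 : Nat.card (P : Subgroup G) ∣ Nat.card (CP P) := Subgroup.card_dvd_of_le (le_CP c.hyp P)
      exact even_iff_two_dvd.mpr (h1.trans h2)
    have hbot := hN N hNn hodd
    obtain ⟨n, hn⟩ := hNt.exists_smul_eq P Q₀
    have hn1 : (n : G) = 1 := (Subgroup.eq_bot_iff_forall N).mp hbot _ n.2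
    apply hPQ₀
    have h2 : (n : G) • P = Q₀ := hn
    rwa [hn1, one_smul] at h2

omit hTI hN in
/-- The elements of order at most two in `C_P`. -/
def E0 (c : Ctx G) (P : Sylow 2 G) : Subgroup G where
  carrier := {x | x ∈ CP P ∧ x * x = 1}
  mul_mem' := by
    rintro a b ⟨ha, ha'⟩ ⟨hb, hb'⟩
    refine ⟨(CP P).mul_mem ha hb, ?_⟩
    have hc : a * b = b * a := c.CP_comm' P ha hb
    calc a * b * (a * b) = a * (b * a) * b := by group
      _ = a * (a * b) * b := by rw [hc]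
      _ = (a * a) * (b * b) := by group
      _ = 1 := by rw [ha', hb', one_mul]
  one_mem' := ⟨(CP P).one_mem, by simp⟩
  inv_mem' := by
    rintro a ⟨ha, ha'⟩
    refine ⟨(CP P).inv_mem ha, ?_⟩
    rw [← mul_inv_rev, ha', inv_one]

omit hTI hN in
theorem card_E0 (P : Sylow 2 G) : Nat.card (E0 c P) = Nat.card (Inv G P) + 1 := by
  classical
  have hone := onePt c.hyp
  obtain ⟨t, ht, ht2⟩ := c.exists_invol P
  have h1 : Nat.card (Option {b : E0 c P // b ≠ 1}) = Nat.card (E0 c P) :=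
    Nat.card_congr (Equiv.optionSubtypeNe (1 : E0 c P))
  rw [Finite.card_option] at h1
  rw [← h1]
  congr 1
  have hm1 : ∀ b : {b : E0 c P // b ≠ 1}, ((b.1 : E0 c P) : G) ∈ Inv G P := by
    rintro ⟨⟨b, hb1, hb2⟩, hb⟩
    have hb' : b ≠ 1 := fun h => hb (Subtype.ext h)
    have ho : orderOf b = 2 := order_of_mul_self hb2 hb'
    have hbt : b * t = t * b := (mem_CP_iff c.hyp ht ht2).mp hb1
    obtain ⟨T, hT⟩ := exists_sylow_mem ho
    have hTP : T = P := hone.commute_fix ho ht2 hbt ((smul_eq_iff_of_invol c.hyp ho T).mpr hT)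
      ((smul_eq_iff_of_invol c.hyp ht2 P).mpr ht)
    subst hTP
    exact c.mem_Inv.mpr ⟨ho, hT⟩
  have hm2 : ∀ s : Inv G P, (s : G) ∈ E0 c P := by
    rintro ⟨s, hs⟩
    have hs' := c.mem_Inv.mp hs
    exact ⟨le_CP c.hyp P hs'.2, mul_self_of_order hs'.1⟩
  refine Nat.card_congr ⟨fun b => ⟨_, hm1 b⟩, fun s => ⟨⟨s, hm2 s⟩, ?_⟩, ?_, ?_⟩
  · intro h
    have h2 : (s : G) = 1 := congrArg Subtype.val h
    exact ne_one_of_order (c.mem_Inv.mp s.2).1 h2
  · rintro ⟨⟨b, hb⟩, hb'⟩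
    rfl
  · rintro ⟨s, hs⟩
    rfl

/-- **Case I of the theorem.** -/
theorem caseI_main :
    ∃ (F : Type) (_ : Field F) (_ : Fintype F), CharP F 2 ∧ Nonempty (G ≃* SL(2, F)) := by
  classical
  have hone := onePt c.hyp
  haveI := Fintype.ofFinite G
  haveI : Fintype (Sylow 2 G) := Fintype.ofFinite _
  obtain ⟨P, Q₀, hPQ₀⟩ : ∃ P Q : Sylow 2 G, P ≠ Q := by
    haveI := c.nn
    exact exists_pair_ne _
  have hZ := isZass c hTI hN
  have hcardΩ : Nat.card (CP P) + 1 = Fintype.card (Sylow 2 G) := by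
    rw [← Nat.card_eq_fintype_card]
    exact card_CP_add_one c hTI P
  have Dt : Data P Q₀ (CP P) := by
    refine ⟨hZ, hPQ₀, CP_le_stabilizer P, hcardΩ, ?_⟩
    intro u hu hu1 c' hc'
    by_contra hne
    exact hu1 (CP_inter_stab c hTI (Ne.symm hne) hu hc')
  have hodd : Odd (Nat.card (E (G := G) P Q₀)) := odd_card_D hone hPQ₀
  have hEcard : Nat.card (E (G := G) P Q₀) = Nat.card (Inv G P) := card_D_eq c hTI hPQ₀
  have hle : Nat.card (CP P) - 1 ≤ 2 * Nat.card (E (G := G) P Q₀) := by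
    rcases Cfsg.Agent.Lib.Zass.FeitMain.main Dt hodd with h | ⟨-, ⟨u, v, huv⟩, -⟩
    · exact h
    · exact absurd (Subtype.ext (c.CP_comm' P u.2 v.2)) huv
  have hdvd : Nat.card (E0 c P) ∣ Nat.card (CP P) := Subgroup.card_dvd_of_le (fun x hx => hx.1)
  rw [card_E0 c P] at hdvd
  rw [hEcard] at hle
  have hh : Nat.card (CP P) = Nat.card (Inv G P) + 1 := by
    obtain ⟨k, hk⟩ := hdvd
    have hpos : 0 < Nat.card (CP P) := Nat.card_pos
    have hk0 : k ≠ 0 := by
      rintro rfl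
      omega
    have hk1 : k = 1 := by
      by_contra hne
      have hk2 : 2 ≤ k := by omega
      have : (Nat.card (Inv G P) + 1) * 2 ≤ (Nat.card (Inv G P) + 1) * k :=
        Nat.mul_le_mul_left _ hk2
      omega
    rw [hk, hk1, mul_one]
  have hd : Nat.card (E (G := G) P Q₀) + 2 = Fintype.card (Sylow 2 G) := by
    rw [hEcard, ← hcardΩ, hh]
  obtain ⟨F, i1, i2, hchar, ⟨e⟩⟩ := sharp3_char_two hZ hPQ₀ hd hodd
  haveI : CharP F 2 := ringChar.of_eq hchar
  obtain ⟨e'⟩ := psl_equiv_sl F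
  exact ⟨F, i1, i2, inferInstance, ⟨e.trans e'⟩⟩

end Cfsg.Agent.Lib.CAInv.CaseI2
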