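import Cfsg.Agent.Lib.CAInv.Lift

/-!
# The case in which two distinct Sylow subgroups have a common odd centraliser element

We show that this case leads to a non-trivial normal subgroup of odd order.
-/

set_option autoImplicit false
set_option linter.unusedSectionVars false
set_option linter.style.haveILetI false
set_option linter.unusedVariables false

open scoped MatrixGroups

namespace Cfsg.Agent.Lib.CAInv.CaseII

open Act Basic Basic.Ctx MulAction Lift
open Cfsg.Agent.Lib.Classical.StSL2 Cfsg.Agent.Lib.CAInv.SL2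

universe u

/-- The cover statement. -/
def Concl (G : Type u) [Group G] : Prop :=
  ∃ (F : Type) (_ : Field F) (_ : Fintype F) (ψ : G →* SL(2, F)),
    CharP F 2 ∧ Function.Surjective ψ ∧ Odd (Nat.card ψ.ker)

variable {G : Type u} [Group G] [Finite G] (c : Ctx G)

include c in
/-- A subgroup containing two Sylow subgroups has the standing properties. -/
theorem ctx_subgroup (Y : Subgroup G) {P Q : Sylow 2 G} (hP : (P : Subgroup G) ≤ Y)
    (hQ : (Q : Subgroup G) ≤ Y) (hPQ : P ≠ Q) : Ctx Y := by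
  refine ⟨c.hyp.subgroup Y, ?_, ?_⟩
  · apply nc_of_one (P₀ := P.subtype hP)
    intro hcyc
    haveI : IsCyclic ((P : Subgroup G).subgroupOf Y) := hcyc
    apply c.nc P
    exact isCyclic_of_surjective (Subgroup.subgroupOfEquivOfLe hP)
      (Subgroup.subgroupOfEquivOfLe hP).surjective
  · exact ⟨⟨P.subtype hP, Q.subtype hQ, fun h => hPQ (Sylow.subtype_injective h)⟩⟩

/-- The centraliser of `y` -/
abbrev CY (y : G) : Subgroup G := Subgroup.centralizer ({y} : Set G)

omit [Finite G] in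
theorem mem_CY {x y : G} : x ∈ CY y ↔ x * y = y * x := mem_centralizer_iff'

omit c in
theorem le_CY_of_mem_CP {W : Sylow 2 G} {y : G} (hy : y ∈ CP W) : (W : Subgroup G) ≤ CY y := by
  intro x hx
  rw [mem_CY]
  exact (mem_CP.mp hy x hx).symm

include c in
theorem CP_le_CY {W : Sylow 2 G} {y : G} (hy : y ∈ CP W) : CP W ≤ CY y := by
  intro x hx
  rw [mem_CY]
  exact c.CP_comm' W hx hy

omit c in
/-- An involution in `C(y)` puts `y` into the corresponding `K`. -/
theorem mem_K_of_invol (c : Ctx G) {W : Sylow 2 G} {y s : G} (hy : Odd (orderOf y)) (hs : s ∈ W)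
    (hs2 : orderOf s = 2) (hsy : s * y = y * s) : y ∈ K c W :=
  ⟨(mem_CP_iff c.hyp hs hs2).mpr hsy.symm, hy⟩

section Cover

variable {y : G} {F : Type} [Field F] [Fintype F] [CharP F 2] (ψ : CY y →* SL(2, F))
  (hsurj : Function.Surjective ψ) (hodd : Odd (Nat.card ψ.ker)) (cY : Ctx (CY y))

/-- The kernel, as a subgroup of the whole group. -/
def Km (ψ : CY y →* SL(2, F)) : Subgroup G := ψ.ker.map (CY y).subtype

omit c [Finite G] in
theorem mem_Km {x : G} : x ∈ Km ψ ↔ ∃ hx : x ∈ CY y, ψ ⟨x, hx⟩ = 1 := by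
  unfold Km
  rw [Subgroup.mem_map]
  constructor
  · rintro ⟨⟨a, ha⟩, hk, rfl⟩
    exact ⟨ha, hk⟩
  · rintro ⟨hx, h⟩
    exact ⟨⟨x, hx⟩, h, rfl⟩

include c cY hodd in
/-- All the subgroups `K c W` with `y ∈ K c W` agree with the kernel. -/
theorem K_eq_Km {W : Sylow 2 G} (hyW : y ∈ K c W) : K c W = Km ψ := by
  have hW : (W : Subgroup G) ≤ CY y := le_CY_of_mem_CP hyW.1
  apply le_antisymm
  · intro x hx
    have hxY : x ∈ CY y := CP_le_CY c hyW.1 hx.1
    rw [mem_Km ψ]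
    refine ⟨hxY, ?_⟩
    obtain ⟨t, ht, ht2⟩ := c.exists_invol W
    have htY : t ∈ CY y := hW ht
    have h1 : (⟨t, htY⟩ : CY y) * ⟨t, htY⟩ = 1 := Subtype.ext (mul_self_of_order ht2)
    have hv : ψ ⟨t, htY⟩ * ψ ⟨t, htY⟩ = 1 := by rw [← map_mul, h1, map_one]
    have hv1 : ψ ⟨t, htY⟩ ≠ 1 := by
      intro h
      have h2 := eq_one_of_mem_ker_of_sq ψ hodd (k := ⟨t, htY⟩) h h1
      exact ne_one_of_order ht2 (congrArg Subtype.val h2)
    have hc : ψ ⟨x, hxY⟩ * ψ ⟨t, htY⟩ = ψ ⟨t, htY⟩ * ψ ⟨x, hxY⟩ := by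
      rw [← map_mul, ← map_mul]
      congr 1
      exact Subtype.ext (mem_CP.mp hx.1 t ht)
    have h3 := sq_eq_one_of_commute hv hv1 hc
    apply CaseI.eq_one_of_mul_self _ h3
    apply Odd.of_dvd_nat hx.2
    have h4 := orderOf_map_dvd ψ ⟨x, hxY⟩
    rwa [Subgroup.orderOf_mk] at h4
  · intro x hx
    obtain ⟨hxY, hk⟩ := (mem_Km ψ).mp hx
    refine ⟨?_, ?_⟩
    · have h1 := ker_le_CP cY ψ hodd (W.subtype hW) hk
      rw [mem_CP]
      intro p hp
      have h2 := mem_CP.mp h1 ⟨p, hW hp⟩ (by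
        show (⟨p, hW hp⟩ : CY y) ∈ (W : Subgroup G).subgroupOf (CY y)
        rw [Subgroup.mem_subgroupOf]
        exact hp)
      exact congrArg Subtype.val h2
    · have h1 := odd_orderOf_of_mem_ker ψ hodd hk
      rwa [Subgroup.orderOf_mk] at h1

omit c [Finite G] in
theorem Km_le : Km ψ ≤ CY y := by
  intro x hx
  obtain ⟨hxY, -⟩ := (mem_Km ψ).mp hx
  exact hxY

include cY hsurj hodd in
/-- `C(y)` centralises the kernel. -/
theorem CY_central {g k : G} (hg : g ∈ CY y) (hk : k ∈ Km ψ) : g * k = k * g := by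
  obtain ⟨hkY, hk1⟩ := (mem_Km ψ).mp hk
  have := ker_central cY ψ hsurj hodd (k := ⟨k, hkY⟩) hk1 ⟨g, hg⟩
  exact congrArg Subtype.val this

omit c in
include cY hsurj hodd in
/-- The field has at least four elements. -/
theorem four_le_card : 4 ≤ Fintype.card F := by
  have hq1 : 1 < Fintype.card F := Fintype.one_lt_card
  have hqe : Fintype.card F % 2 = 0 :=
    FiniteField.even_card_iff_char_two.mp (ringChar.eq F 2)
  by_contra hlt
  have hq2 : Fintype.card F = 2 := by omega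
  have hcS : Nat.card (SL(2, F)) = 6 := by
    rw [Cfsg.Agent.Lib.Classical.SL2Sylow.card_SL2, hq2]
  -- a Sylow subgroup of the cover has at most two elements
  obtain ⟨P⟩ : Nonempty (Sylow 2 (CY y)) := inferInstance
  obtain ⟨t, ht, s, hs, ht2, hs2, hts⟩ := cY.exists_two_invol P
  -- their images are distinct commuting involutions
  have ht1 := mul_self_of_order ht2
  have hs1 := mul_self_of_order hs2
  have hne : ψ t ≠ ψ s := fun h => hts (lift_unique cY ψ hodd ht1 hs1 h)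
  have hct : ψ t * ψ t = 1 := by rw [← map_mul, ht1, map_one]
  have hcs : ψ s * ψ s = 1 := by rw [← map_mul, hs1, map_one]
  have hne1 : ψ t ≠ 1 := by
    intro h
    exact ne_one_of_order ht2 (eq_one_of_mem_ker_of_sq ψ hodd h ht1)
  have hne2 : ψ s ≠ 1 := by
    intro h
    exact ne_one_of_order hs2 (eq_one_of_mem_ker_of_sq ψ hodd h hs1)
  have hcomm : ψ t * ψ s = ψ s * ψ t := by
    rw [← map_mul, ← map_mul, sylow_comm cY.hyp P ht hs]
  -- the subgroup {1, a, b, ab} has order four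
  let A : Subgroup (SL(2, F)) := (P : Subgroup (CY y)).map ψ
  have hA2 : IsPGroup 2 A := P.isPGroup'.map ψ
  obtain ⟨n, hn⟩ := IsPGroup.iff_card.mp hA2
  have hdvd : Nat.card A ∣ 6 := by
    rw [← hcS]
    exact Subgroup.card_subgroup_dvd_card A
  have hn1 : n ≤ 1 := by
    by_contra hn2
    have h4 : 2 ^ 2 ∣ 2 ^ n := Nat.pow_dvd_pow 2 (by omega)
    rw [hn] at hdvd
    have := h4.trans hdvd
    omega
  have hle : Nat.card A ≤ 2 := by
    rw [hn]
    calc 2 ^ n ≤ 2 ^ 1 := Nat.pow_le_pow_right (by norm_num) hn1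
      _ = 2 := rfl
  have h3 : 2 < Nat.card A := by
    classical
    haveI := Fintype.ofFinite A
    have h5 : Finset.card ({(⟨1, A.one_mem⟩ : A), (⟨ψ t, Subgroup.mem_map_of_mem ψ ht⟩ : A),
        (⟨ψ s, Subgroup.mem_map_of_mem ψ hs⟩ : A)} : Finset A) = 3 := by
      rw [Finset.card_eq_three]
      refine ⟨_, _, _, ?_, ?_, ?_, rfl⟩
      · exact fun h => hne1 (congrArg Subtype.val h).symm
      · exact fun h => hne2 (congrArg Subtype.val h).symm
      · exact fun h => hne (congrArg Subtype.val h)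
    have h4 := Finset.card_le_univ ({(⟨1, A.one_mem⟩ : A), (⟨ψ t, Subgroup.mem_map_of_mem ψ ht⟩ : A),
        (⟨ψ s, Subgroup.mem_map_of_mem ψ hs⟩ : A)} : Finset A)
    rw [h5] at h4
    rw [Nat.card_eq_fintype_card]
    omega
  omega

end Cover

omit c [Finite G] in
/-- Membership in the kernel. -/
theorem mem_stab_one {Y : Subgroup G} {x : G} : x • ((1 : G) : G ⧸ Y) = ((1 : G) : G ⧸ Y) ↔ x ∈ Y := by
  rw [MulAction.Quotient.smul_coe, smul_eq_mul, mul_one, QuotientGroup.eq]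
  simp

omit c [Finite G] in
theorem mem_stab_coe {Y : Subgroup G} {x g : G} :
    x • ((g : G) : G ⧸ Y) = ((g : G) : G ⧸ Y) ↔ g⁻¹ * x * g ∈ Y := by
  rw [MulAction.Quotient.smul_coe, smul_eq_mul, QuotientGroup.eq]
  have : (x * g)⁻¹ * g = (g⁻¹ * x * g)⁻¹ := by group
  rw [this, Subgroup.inv_mem_iff]

section Main

variable {y : G} {F : Type} [Field F] [Fintype F] [CharP F 2] (ψ : CY y →* SL(2, F))
  (hsurj : Function.Surjective ψ) (hodd : Odd (Nat.card ψ.ker)) (cY : Ctx (CY y))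
  {P Q : Sylow 2 G} (hPQ : P ≠ Q) (hyP : y ∈ K c P) (hyQ : y ∈ K c Q)

include c hsurj hodd cY hPQ hyP hyQ in
/-- The normaliser of the kernel is `C(y)`. -/
theorem normalizer_Km_le {g : G} (hg : g ∈ Subgroup.normalizer (Km ψ : Set G)) : g ∈ CY y := by
  have hone := onePt c.hyp
  have hKP := K_eq_Km c ψ hodd cY hyP
  have hKQ := K_eq_Km c ψ hodd cY hyQ
  have hPY : (P : Subgroup G) ≤ CY y := le_CY_of_mem_CP hyP.1
  have hQY : (Q : Subgroup G) ≤ CY y := le_CY_of_mem_CP hyQ.1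
  obtain ⟨t, ht, ht2⟩ := c.exists_invol P
  obtain ⟨r, hr, hr2⟩ := c.exists_invol Q
  have htY : t ∈ CY y := hPY ht
  have hrY : r ∈ CY y := hQY hr
  have ht1 := mul_self_of_order ht2
  have hr1 := mul_self_of_order hr2
  have hyK : y ∈ Km ψ := by rw [← hKP]; exact hyP
  -- `s = g t g⁻¹` is an involution centralising `y`
  have hs2 : orderOf (g * t * g⁻¹) = 2 := by rw [orderOf_conj', ht2]
  have hsY : (g * t * g⁻¹) * y = y * (g * t * g⁻¹) := by
    have h1 : g⁻¹ * y * g ∈ Km ψ := by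
      have := (Subgroup.mem_normalizer_iff.mp ((Subgroup.normalizer (Km ψ : Set G)).inv_mem hg) y).mp hyK
      rwa [inv_inv] at this
    have h2 : (g⁻¹ * y * g) * t = t * (g⁻¹ * y * g) := by
      rw [← hKP] at h1
      exact mem_CP.mp h1.1 t ht
    calc (g * t * g⁻¹) * y = g * (t * (g⁻¹ * y * g)) * g⁻¹ := by group
      _ = g * ((g⁻¹ * y * g) * t) * g⁻¹ := by rw [h2]
      _ = y * (g * t * g⁻¹) := by group
  obtain ⟨s, hs⟩ : ∃ s, s = g * t * g⁻¹ := ⟨_, rfl⟩
  rw [← hs] at hs2 hsY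
  have hsY' : s ∈ CY y := mem_CY.mpr hsY
  obtain ⟨W, hsW⟩ := exists_sylow_mem hs2
  have hss := (smul_eq_iff_of_invol c.hyp hs2 W).mpr hsW
  have htt := (smul_eq_iff_of_invol c.hyp ht2 P).mpr ht
  have hrr := (smul_eq_iff_of_invol c.hyp hr2 Q).mpr hr
  have hsmall : ∀ {a b : G}, a ∈ CY y → b ∈ CY y → Subgroup.closure {a, b} ≤ CY y := by
    intro a b ha hb
    rw [Subgroup.closure_le]
    rintro z (rfl | rfl)
    · exact ha
    · exact hb
  -- `t` and `s` are conjugate in `C(y)`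
  have hconj : ∃ l ∈ CY y, l * t * l⁻¹ = s := by
    by_cases hWP : W = P
    · subst hWP
      obtain ⟨u₁, hu₁, hu₁t, hu₁m⟩ := hone.exists_swap ht2 hr2 htt hrr hPQ
      obtain ⟨u₂, hu₂, hu₂t, hu₂m⟩ := hone.exists_swap hs2 hr2 hss hrr hPQ
      have hu₁1 := mul_self_of_order hu₁
      have hu₂1 := mul_self_of_order hu₂
      refine ⟨u₂ * u₁, (CY y).mul_mem (hsmall hsY' hrY hu₂m) (hsmall htY hrY hu₁m), ?_⟩
      have h1 : u₂ * r * u₂ = s := by rw [← hu₂t]; exact CaseI.conj_conj hu₂1 s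
      rw [mul_inv_rev, inv_of_order hu₁, inv_of_order hu₂]
      calc u₂ * u₁ * t * (u₁ * u₂) = u₂ * (u₁ * t * u₁) * u₂ := by group
        _ = s := by rw [hu₁t, h1]
    · obtain ⟨u, hu, hut, hum⟩ := hone.exists_swap ht2 hs2 htt hss (Ne.symm hWP)
      refine ⟨u, hsmall htY hsY' hum, ?_⟩
      rw [inv_of_order hu]
      exact hut
  obtain ⟨l, hl, hlt⟩ := hconj
  have hmem : l⁻¹ * g ∈ CP P := by
    rw [mem_CP_iff c.hyp ht ht2]
    have h1 : l * t = g * t * g⁻¹ * l := by rw [← hs, ← hlt]; group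
    calc l⁻¹ * g * t = l⁻¹ * (g * t * g⁻¹) * g := by group
      _ = l⁻¹ * (l * t * l⁻¹) * g := by rw [hlt, hs]
      _ = t * (l⁻¹ * g) := by group
  have h2 := CP_le_CY c hyP.1 hmem
  have h3 : g = l * (l⁻¹ * g) := by group
  rw [h3]
  exact (CY y).mul_mem hl h2

include c hsurj hodd cY hPQ hyP hyQ in
/-- Every involution has exactly one fixed point on the cosets of `C(y)`. -/
theorem onePt_quot : OnePt G (G ⧸ CY y) := by
  have hKP := K_eq_Km c ψ hodd cY hyP
  have hPY : (P : Subgroup G) ≤ CY y := le_CY_of_mem_CP hyP.1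
  have hyodd : Odd (orderOf y) := hyP.2
  -- for any coset fixed by `t`, the conjugate of the Sylow subgroup containing `t` lies in `C(y)`
  have key : ∀ {t a : G} {W : Sylow 2 G}, orderOf t = 2 → t ∈ W → a⁻¹ * t * a ∈ CY y →
      ∀ x, x ∈ K c W ↔ a⁻¹ * x * a ∈ Km ψ := by
    intro t a W ht htW hmem x
    have ho : orderOf (a⁻¹ * t * a) = 2 := by rw [orderOf_conj'', ht]
    have hW' : a⁻¹ * t * a ∈ a⁻¹ • W := by
      rw [mem_smul_sylow, inv_inv]
      convert htW using 1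
      group
    have hyW' : y ∈ K c (a⁻¹ • W) := mem_K_of_invol c hyodd hW' ho (mem_CY.mp hmem)
    have h1 := K_eq_Km c ψ hodd cY hyW'
    have h2 : x ∈ K c W ↔ a⁻¹ * x * a ∈ K c (a⁻¹ • W) := by
      rw [mem_K_smul, inv_inv]
      constructor
      · intro hx
        convert hx using 1
        group
      · intro hx
        convert hx using 1
        group
    rw [h2, h1]
  intro t ht
  obtain ⟨W, htW⟩ := exists_sylow_mem ht
  obtain ⟨a, ha⟩ := MulAction.exists_smul_eq G P W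
  have hex : t • ((a : G) : G ⧸ CY y) = ((a : G) : G ⧸ CY y) := by
    rw [mem_stab_coe]
    apply hPY
    rw [← ha] at htW
    exact mem_smul_sylow.mp htW
  refine ⟨(a : G ⧸ CY y), hex, ?_⟩
  intro β hβ
  obtain ⟨b, rfl⟩ := QuotientGroup.mk_surjective β
  have hb : t • ((b : G) : G ⧸ CY y) = ((b : G) : G ⧸ CY y) := hβ
  rw [mem_stab_coe] at hb hex
  have h1 := key ht htW hex
  have h2 := key ht htW hb
  have hn : b⁻¹ * a ∈ Subgroup.normalizer (Km ψ : Set G) := by
    apply Subgroup.mem_normalizer_iff.mpr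
    intro x
    constructor
    · intro hx
      have h3 : a * x * a⁻¹ ∈ K c W := by
        rw [h1]
        convert hx using 1
        group
      have h4 := (h2 _).mp h3
      convert h4 using 1
      group
    · intro hx
      have h3 : b * (b⁻¹ * a * x * (b⁻¹ * a)⁻¹) * b⁻¹ ∈ K c W := by
        rw [h2]
        convert hx using 1
        group
      have h4 := (h1 _).mp h3
      convert h4 using 1
      group
  have hm := normalizer_Km_le c ψ hsurj hodd cY hPQ hyP hyQ hn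
  exact (QuotientGroup.eq.mpr hm)

include c hsurj hodd cY hPQ hyP hyQ in
/-- The subgroup `C(y)` is the whole group. -/
theorem mem_CY_all
    (hK : ∀ {P' Q' : Sylow 2 G}, P' ≠ Q' → ∀ {z : G}, z ∈ K c P' → z ∈ K c Q' → z ≠ 1 →
      K c P' = K c Q') (g : G) : g ∈ CY y := by
  classical
  by_contra hg
  have hone := onePt c.hyp
  have hone' := onePt_quot c ψ hsurj hodd cY hPQ hyP hyQ
  have hKP := K_eq_Km c ψ hodd cY hyP
  have hPY : (P : Subgroup G) ≤ CY y := le_CY_of_mem_CP hyP.1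
  obtain ⟨t, ht, ht2⟩ := c.exists_invol P
  have htY : t ∈ CY y := hPY ht
  -- the two points
  obtain ⟨α, hα⟩ : ∃ α : G ⧸ CY y, α = ((1 : G) : G ⧸ CY y) := ⟨_, rfl⟩
  obtain ⟨β, hβ⟩ : ∃ β : G ⧸ CY y, β = ((g : G) : G ⧸ CY y) := ⟨_, rfl⟩
  have hstabα : ∀ {x : G}, x • α = α ↔ x ∈ CY y := by
    intro x
    rw [hα]
    exact mem_stab_one
  have hstabβ : ∀ {x : G}, x • β = β ↔ g⁻¹ * x * g ∈ CY y := by
    intro x
    rw [hβ]
    exact mem_stab_coe
  have hne : α ≠ β := by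
    rw [hα, hβ]
    intro h
    apply hg
    have := QuotientGroup.eq.mp h
    simpa using this
  have hInvα : (Inv G α).Nonempty := ⟨t, ht2, hstabα.mpr htY⟩
  have hInvβ : (Inv G β).Nonempty := by
    refine ⟨g * t * g⁻¹, by rw [orderOf_conj', ht2], hstabβ.mpr ?_⟩
    have : g⁻¹ * (g * t * g⁻¹) * g = t := by group
    rw [this]
    exact htY
  obtain ⟨u, hu⟩ := hone'.exists_Sw hne hInvα hInvβ
  have hu1 := mul_self_of_order hu.1
  have hui := inv_of_order hu.1
  -- `g⁻¹ u` centralises the kernel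
  have hx₀ : g⁻¹ * u ∈ CY y := by
    have h1 : u • α = β := hu.2
    rw [hα, hβ, MulAction.Quotient.smul_coe, smul_eq_mul, mul_one] at h1
    have h2 := QuotientGroup.eq.mp h1
    rw [hui] at h2
    have h3 := (CY y).inv_mem h2
    rwa [mul_inv_rev, hui] at h3
  -- conjugating `K` by `g` moves it away
  have hKg : K c (g • P) ≠ K c P := by
    intro h
    apply hg
    apply normalizer_Km_le c ψ hsurj hodd cY hPQ hyP hyQ
    apply (Subgroup.normalizer (Km ψ : Set G)).inv_mem_iff.mp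
    apply Subgroup.mem_normalizer_iff.mpr
    intro x
    rw [inv_inv, ← hKP, ← h, mem_K_smul]
    rw [h]
  have hRcross : ∀ r ∈ Km ψ, u * r * u ∈ Km ψ → r = 1 := by
    intro r hr hr'
    have hz : u * r * u ∈ K c (g • P) := by
      rw [mem_K_smul, hKP]
      have h1 : g⁻¹ * (u * r * u) * g = (g⁻¹ * u) * r * (g⁻¹ * u)⁻¹ := by
        rw [mul_inv_rev, hui, inv_inv]
        group
      rw [h1, CY_central ψ hsurj hodd cY hx₀ hr]
      rwa [mul_inv_cancel_right]
    by_contra hr1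
    have hz1 : u * r * u ≠ 1 := by
      intro h
      apply hr1
      rw [← CaseI.conj_conj hu1 r, h, mul_one, hu1]
    apply hKg
    by_cases hPg : P = g • P
    · rw [← hPg]
    · exact (hK hPg (by rw [hKP]; exact hr') hz hz1).symm
  let R : Subgroup G := Km ψ ⊓ stabilizer G β
  have hRD : R ≤ D G α β := fun r hr => ⟨hstabα.mpr (Km_le ψ hr.1), hr.2⟩
  have hDY : D G α β ≤ CY y := fun x hx => hstabα.mp hx.1
  have hRn : ∀ x ∈ D G α β, ∀ r ∈ R, x * r * x⁻¹ ∈ R := by
    intro x hx r hr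
    rw [CY_central ψ hsurj hodd cY (hDY hx) hr.1, mul_inv_cancel_right]
    exact hr
  have h1 := card_J_mul_le hu1 hRD hRn (fun r hr hr' => hRcross r hr.1 hr'.1)
  rw [card_J hne hu, hone'.card_Sw' hne hInvβ] at h1
  -- the image of `D` in `SL(2, F)`
  let W : Subgroup (SL(2, F)) := ((D G α β).subgroupOf (CY y)).map ψ
  let f : D G α β → W := fun x => ⟨ψ ⟨x, hDY x.2⟩, Subgroup.mem_map_of_mem ψ (by
    rw [Subgroup.mem_subgroupOf]
    exact x.2)⟩
  have hf : ∀ x x' : D G α β, f x = f x' → (x : G)⁻¹ * x' ∈ R := by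
    rintro ⟨x, hx⟩ ⟨x', hx'⟩ h
    have h2 : ψ ⟨x, hDY hx⟩ = ψ ⟨x', hDY hx'⟩ := congrArg Subtype.val h
    have hD : x⁻¹ * x' ∈ D G α β := (D G α β).mul_mem ((D G α β).inv_mem hx) hx'
    refine ⟨(mem_Km ψ).mpr ⟨hDY hD, ?_⟩, hD.2⟩
    have h3 : (⟨x⁻¹ * x', hDY hD⟩ : CY y) = (⟨x, hDY hx⟩ : CY y)⁻¹ * ⟨x', hDY hx'⟩ := rfl
    rw [h3, map_mul, map_inv, h2, inv_mul_cancel]
  have h2 := card_le_of_fibers f hf
  have hRpos : 0 < Nat.card R := Nat.card_pos
  have hle1 : Nat.card (Inv G α) ≤ Nat.card W := by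
    have := h1.trans h2
    exact Nat.le_of_mul_le_mul_right this hRpos
  -- the bound for odd subgroups
  have hWodd : Odd (Nat.card W) := by
    have h3 : Nat.card W ∣ Nat.card ((D G α β).subgroupOf (CY y)) := Subgroup.card_map_dvd _ _
    have h4 : Nat.card ((D G α β).subgroupOf (CY y)) = Nat.card (D G α β) :=
      Nat.card_congr (Subgroup.subgroupOfEquivOfLe hDY).toEquiv
    rw [h4] at h3
    exact Odd.of_dvd_nat (odd_card_D hone' hne) h3
  have hle2 := card_le_of_odd W hWodd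
  have hle3 := card_invol_ge ψ hsurj hodd
  have hle4 : Nat.card {t : CY y // orderOf t = 2} ≤ Nat.card (Inv G α) := by
    apply Nat.card_le_card_of_injective (fun t : {t : CY y // orderOf t = 2} =>
      (⟨(t.1 : G), by rw [Subgroup.orderOf_coe]; exact t.2, hstabα.mpr t.1.2⟩ : Inv G α))
    rintro ⟨⟨a, ha⟩, ha'⟩ ⟨⟨b, hb⟩, hb'⟩ h
    have h5 : a = b := congrArg Subtype.val h
    subst h5
    rfl
  have hq := four_le_card ψ hsurj hodd cY
  omega

end Main

include c in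
/-- The centraliser of `y` is a proper subgroup. -/
theorem CY_ne_top (hN : ∀ N : Subgroup G, N.Normal → Odd (Nat.card N) → N = ⊥) {y : G}
    (hy : Odd (orderOf y)) (hy1 : y ≠ 1) : CY y ≠ ⊤ := by
  intro h
  have hc : ∀ g : G, g * y = y * g := fun g => mem_CY.mp (by rw [h]; exact Subgroup.mem_top g)
  have hn : (Subgroup.zpowers y).Normal := by
    constructor
    rintro _ ⟨k, rfl⟩ g
    have h1 : Commute g (y ^ k) := (show Commute g y from hc g).zpow_right k
    have : g * (fun x => y ^ x) k * g⁻¹ = y ^ k := by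
      show g * y ^ k * g⁻¹ = y ^ k
      rw [h1.eq, mul_inv_cancel_right]
    rw [this]
    exact Subgroup.zpow_mem_zpowers y k
  have h2 := hN _ hn (by rwa [Nat.card_zpowers])
  exact hy1 (Subgroup.zpowers_eq_bot.mp h2)

include c in
/-- Any two subgroups `K c P`, `K c Q` meeting non-trivially coincide. -/
theorem K_eq_of_common (hN : ∀ N : Subgroup G, N.Normal → Odd (Nat.card N) → N = ⊥)
    (IH : ∀ Y : Subgroup G, Y ≠ ⊤ → Ctx Y → Concl Y) {P Q : Sylow 2 G} (hPQ : P ≠ Q) {y : G}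
    (hyP : y ∈ K c P) (hyQ : y ∈ K c Q) (hy1 : y ≠ 1) : K c P = K c Q := by
  have hYne := CY_ne_top c hN hyP.2 hy1
  have cY : Ctx (CY y) := ctx_subgroup c (CY y) (le_CY_of_mem_CP hyP.1) (le_CY_of_mem_CP hyQ.1) hPQ
  obtain ⟨F, i1, i2, ψ, hchar, hsurj, hodd⟩ := IH _ hYne cY
  rw [K_eq_Km c ψ hodd cY hyP, K_eq_Km c ψ hodd cY hyQ]

include c in
/-- **Case II is impossible.** -/
theorem caseII_false (hN : ∀ N : Subgroup G, N.Normal → Odd (Nat.card N) → N = ⊥)
    (IH : ∀ Y : Subgroup G, Y ≠ ⊤ → Ctx Y → Concl Y) {P Q : Sylow 2 G} (hPQ : P ≠ Q) {y : G}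
    (hyP : y ∈ K c P) (hyQ : y ∈ K c Q) (hy1 : y ≠ 1) : False := by
  have hYne := CY_ne_top c hN hyP.2 hy1
  have cY : Ctx (CY y) := ctx_subgroup c (CY y) (le_CY_of_mem_CP hyP.1) (le_CY_of_mem_CP hyQ.1) hPQ
  obtain ⟨F, i1, i2, ψ, hchar, hsurj, hodd⟩ := IH _ hYne cY
  apply hYne
  rw [eq_top_iff]
  intro g _
  exact mem_CY_all c ψ hsurj hodd cY hPQ hyP hyQ
    (fun hne _ hz hz' hz1 => K_eq_of_common c hN IH hne hz hz' hz1) g

end Cfsg.Agent.Lib.CAInv.CaseII
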