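import Cfsg.Agent.Lib.CAInv.SL2

/-!
# Covers of `SL(2, F)` with kernel of odd order
-/

set_option autoImplicit false
set_option linter.unusedSectionVars false
set_option linter.style.haveILetI false
set_option linter.unusedVariables false

open scoped MatrixGroups

namespace Cfsg.Agent.Lib.CAInv.Lift

open Act Basic Basic.Ctx MulAction
open Cfsg.Agent.Lib.Classical.StSL2 Cfsg.Agent.Lib.CAInv.SL2

section General

variable {G : Type*} [Group G] [Finite G] {H : Type*} [Group H]
  (c : Ctx G) (ψ : G →* H) (hsurj : Function.Surjective ψ) (hodd : Odd (Nat.card ψ.ker))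

include hodd in
theorem odd_orderOf_of_mem_ker {k : G} (hk : k ∈ ψ.ker) : Odd (orderOf k) := by
  have h5 : orderOf (⟨k, hk⟩ : ψ.ker) ∣ Nat.card ψ.ker := orderOf_dvd_natCard _
  rw [Subgroup.orderOf_mk] at h5
  exact Odd.of_dvd_nat hodd h5

include hodd in
theorem eq_one_of_mem_ker_of_sq {k : G} (hk : k ∈ ψ.ker) (h : k * k = 1) : k = 1 :=
  CaseI.eq_one_of_mul_self (odd_orderOf_of_mem_ker ψ hodd hk) h

include c hodd in
theorem ker_le_CP (P : Sylow 2 G) : ψ.ker ≤ CP P := by
  apply c.le_CP_of_odd _ hodd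
  rw [Subgroup.normalizer_eq_top_iff.mpr inferInstance]
  exact le_top

include c hodd in
/-- The kernel is centralised by elements of square one. -/
theorem ker_comm_of_sq {g k : G} (hg : g * g = 1) (hk : k ∈ ψ.ker) : k * g = g * k := by
  by_cases h1 : g = 1
  · rw [h1, mul_one, one_mul]
  have ho : orderOf g = 2 := order_of_mul_self hg h1
  obtain ⟨P, hP⟩ := exists_sylow_mem ho
  exact mem_CP.mp (ker_le_CP c ψ hodd P hk) g hP

include c hodd in
/-- Elements of square one are determined by their images. -/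
theorem lift_unique {g₁ g₂ : G} (h₁ : g₁ * g₁ = 1) (h₂ : g₂ * g₂ = 1) (h : ψ g₁ = ψ g₂) : g₁ = g₂ := by
  have hi₁ : g₁⁻¹ = g₁ := inv_eq_of_mul_eq_one_left h₁
  have hi₂ : g₂⁻¹ = g₂ := inv_eq_of_mul_eq_one_left h₂
  have hn : g₁ * g₂ ∈ ψ.ker := by
    rw [MonoidHom.mem_ker, map_mul, ← h, ← map_mul, h₁, map_one]
  have h3 := ker_comm_of_sq c ψ hodd h₁ hn
  have h4 : (g₁ * g₂) * (g₁ * g₂) = 1 := by
    calc (g₁ * g₂) * (g₁ * g₂) = (g₁ * (g₁ * g₂)) * g₂ * 1 := by
          rw [← h3]; group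
      _ = (g₁ * g₁) * (g₂ * g₂) := by rw [mul_one]; group
      _ = 1 := by rw [h₁, h₂, one_mul]
  have h5 := eq_one_of_mem_ker_of_sq ψ hodd hn h4
  rw [← hi₂]
  exact eq_inv_of_mul_eq_one_left h5

include hsurj hodd in
/-- Elements of square one lift to elements of square one. -/
theorem lift_exists {v : H} (hv : v * v = 1) : ∃ g : G, g * g = 1 ∧ ψ g = v := by
  obtain ⟨g₀, hg₀⟩ := hsurj v
  have hn : orderOf g₀ ≠ 0 := (orderOf_pos g₀).ne'
  obtain ⟨a, m, hm, he⟩ := Nat.exists_eq_two_pow_mul_odd hn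
  have hvp : v ^ m = v := by
    obtain ⟨l, hl⟩ := hm
    rw [hl, pow_succ, pow_mul, pow_two, hv, one_pow, one_mul]
  have hg : ψ (g₀ ^ m) = v := by rw [map_pow, hg₀, hvp]
  refine ⟨g₀ ^ m, ?_, hg⟩
  have hk : (g₀ ^ m) * (g₀ ^ m) ∈ ψ.ker := by
    rw [MonoidHom.mem_ker, map_mul, hg, hv]
  have ho := odd_orderOf_of_mem_ker ψ hodd hk
  have h1 : orderOf ((g₀ ^ m) * (g₀ ^ m)) ∣ 2 ^ a := by
    apply orderOf_dvd_of_pow_eq_one
    rw [← pow_add, ← pow_mul]
    have : (m + m) * 2 ^ a = 2 * orderOf g₀ := by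
      rw [he]; ring
    rw [this, mul_comm, pow_mul, pow_orderOf_eq_one, one_pow]
  have h2 : orderOf ((g₀ ^ m) * (g₀ ^ m)) = 1 := by
    have h3 := (Nat.dvd_prime_pow Nat.prime_two).mp h1
    obtain ⟨b, -, hb⟩ := h3
    rw [hb] at ho ⊢
    cases b with
    | zero => simp
    | succ b =>
      exfalso
      rw [Nat.odd_iff, pow_succ] at ho
      omega
  exact orderOf_eq_one_iff.mp h2

end General

variable {G : Type*} [Group G] [Finite G] {F : Type*} [Field F] [CharP F 2]
  (c : Ctx G) (ψ : G →* SL(2, F)) (hsurj : Function.Surjective ψ) (hodd : Odd (Nat.card ψ.ker))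

include c hodd in
/-- If the image of a product of two elements of square one has square one, they commute. -/
theorem comm_of_image_sq {a b : G} (ha : a * a = 1) (hb : b * b = 1)
    (hab : ψ (a * b) * ψ (a * b) = 1) : a * b = b * a := by
  by_cases ha1 : a = 1
  · rw [ha1, one_mul, mul_one]
  by_cases hb1 : b = 1
  · rw [hb1, one_mul, mul_one]
  have hao := order_of_mul_self ha ha1
  have hbo := order_of_mul_self hb hb1
  obtain ⟨P, hP⟩ := exists_sylow_mem hao
  obtain ⟨Q, hQ⟩ := exists_sylow_mem hbo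
  have hone := onePt c.hyp
  by_cases hPQ : P = Q
  · subst hPQ
    exact sylow_comm c.hyp P hP hQ
  · exfalso
    have hoab := hone.odd_orderOf_mul hao hbo ((smul_eq_iff_of_invol c.hyp hao P).mpr hP)
      ((smul_eq_iff_of_invol c.hyp hbo Q).mpr hQ) hPQ
    have himg : ψ (a * b) = 1 := by
      apply CaseI.eq_one_of_mul_self _ hab
      exact Odd.of_dvd_nat hoab (orderOf_map_dvd ψ (a * b))
    have heq : a = b := by
      apply lift_unique c ψ hodd ha hb
      rw [map_mul] at himg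
      have : ψ a = (ψ b)⁻¹ := eq_inv_of_mul_eq_one_left himg
      rw [this]
      have hb' : (ψ b)⁻¹ = ψ b := by
        rw [← map_inv, inv_eq_of_mul_eq_one_left hb]
      exact hb'
    subst heq
    exact hPQ (sylow_eq_of_invol c.hyp hao hP hQ)

include c hsurj hodd in
/-- The kernel is central. -/
theorem ker_central {k : G} (hk : k ∈ ψ.ker) (g : G) : g * k = k * g := by
  let C₀ : Subgroup G := Subgroup.centralizer ({k} : Set G)
  have hmem : ∀ {x : G}, x ∈ C₀ ↔ x * k = k * x := mem_centralizer_iff'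
  have hsq : ∀ v : SL(2, F), v * v = 1 → ∃ g' ∈ C₀, ψ g' = v := by
    intro v hv
    obtain ⟨g', hg', hg'v⟩ := lift_exists ψ hsurj hodd hv
    refine ⟨g', hmem.mpr ?_, hg'v⟩
    exact (ker_comm_of_sq c ψ hodd hg' hk).symm
  have hall : ∀ v : SL(2, F), ∃ g' ∈ C₀, ψ g' = v := by
    apply sl2_induction
    · intro t
      exact hsq _ (Xm_sq t)
    · intro t
      exact hsq _ (Ym_sq t)
    · rintro A B ⟨a, ha, rfl⟩ ⟨b, hb, rfl⟩
      exact ⟨a * b, C₀.mul_mem ha hb, map_mul _ _ _⟩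
  obtain ⟨g', hg', hgg'⟩ := hall (ψ g)
  have hn : g'⁻¹ * g ∈ ψ.ker := by
    rw [MonoidHom.mem_ker, map_mul, map_inv, hgg', inv_mul_cancel]
  have hP : ∃ P : Sylow 2 G, True := ⟨default, trivial⟩
  obtain ⟨P, -⟩ := hP
  have hnk : (g'⁻¹ * g) * k = k * (g'⁻¹ * g) :=
    c.CP_comm' P (ker_le_CP c ψ hodd P hn) (ker_le_CP c ψ hodd P hk)
  have h1 : g = g' * (g'⁻¹ * g) := by group
  rw [h1, mul_assoc, hnk, ← mul_assoc, hmem.mp hg', mul_assoc]

/-- A chosen lift of the upper root elements. -/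
noncomputable def lx (hsurj : Function.Surjective ψ) (hodd : Odd (Nat.card ψ.ker)) (t : F) : G :=
  Classical.choose (lift_exists ψ hsurj hodd (Xm_sq t))

/-- A chosen lift of the lower root elements. -/
noncomputable def ly (hsurj : Function.Surjective ψ) (hodd : Odd (Nat.card ψ.ker)) (t : F) : G :=
  Classical.choose (lift_exists ψ hsurj hodd (Ym_sq t))

theorem lx_sq (t : F) : lx ψ hsurj hodd t * lx ψ hsurj hodd t = 1 :=
  (Classical.choose_spec (lift_exists ψ hsurj hodd (Xm_sq t))).1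

theorem ly_sq (t : F) : ly ψ hsurj hodd t * ly ψ hsurj hodd t = 1 :=
  (Classical.choose_spec (lift_exists ψ hsurj hodd (Ym_sq t))).1

theorem map_lx (t : F) : ψ (lx ψ hsurj hodd t) = Xm t :=
  (Classical.choose_spec (lift_exists ψ hsurj hodd (Xm_sq t))).2

theorem map_ly (t : F) : ψ (ly ψ hsurj hodd t) = Ym t :=
  (Classical.choose_spec (lift_exists ψ hsurj hodd (Ym_sq t))).2

omit [Finite G] [CharP F 2] in
theorem conj_sq {g x : G} (hx : x * x = 1) : (g * x * g⁻¹) * (g * x * g⁻¹) = 1 := by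
  have : (g * x * g⁻¹) * (g * x * g⁻¹) = g * (x * x) * g⁻¹ := by group
  rw [this, hx]
  group

include c hsurj hodd in
theorem lift_sys : Sys (lx ψ hsurj hodd) (ly ψ hsurj hodd) := by
  have hS := sys_matrices (K := F)
  refine ⟨?_, ?_, ?_, ?_⟩
  · intro t u
    have hc := comm_of_image_sq c ψ hodd (lx_sq ψ hsurj hodd t) (lx_sq ψ hsurj hodd u) (by
      rw [map_mul, map_lx, map_lx, ← Xm_add]
      exact Xm_sq _)
    apply lift_unique c ψ hodd (lx_sq ψ hsurj hodd _)
    · calc lx ψ hsurj hodd t * lx ψ hsurj hodd u * (lx ψ hsurj hodd t * lx ψ hsurj hodd u)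
          = lx ψ hsurj hodd t * (lx ψ hsurj hodd u * lx ψ hsurj hodd t) * lx ψ hsurj hodd u := by group
        _ = lx ψ hsurj hodd t * (lx ψ hsurj hodd t * lx ψ hsurj hodd u) * lx ψ hsurj hodd u := by rw [hc]
        _ = (lx ψ hsurj hodd t * lx ψ hsurj hodd t) * (lx ψ hsurj hodd u * lx ψ hsurj hodd u) := by group
        _ = 1 := by rw [lx_sq, lx_sq, one_mul]
    · rw [map_mul, map_lx, map_lx, map_lx, Xm_add]
  · intro t u
    have hc := comm_of_image_sq c ψ hodd (ly_sq ψ hsurj hodd t) (ly_sq ψ hsurj hodd u) (by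
      rw [map_mul, map_ly, map_ly, ← Ym_add]
      exact Ym_sq _)
    apply lift_unique c ψ hodd (ly_sq ψ hsurj hodd _)
    · calc ly ψ hsurj hodd t * ly ψ hsurj hodd u * (ly ψ hsurj hodd t * ly ψ hsurj hodd u)
          = ly ψ hsurj hodd t * (ly ψ hsurj hodd u * ly ψ hsurj hodd t) * ly ψ hsurj hodd u := by group
        _ = ly ψ hsurj hodd t * (ly ψ hsurj hodd t * ly ψ hsurj hodd u) * ly ψ hsurj hodd u := by rw [hc]
        _ = (ly ψ hsurj hodd t * ly ψ hsurj hodd t) * (ly ψ hsurj hodd u * ly ψ hsurj hodd u) := by group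
        _ = 1 := by rw [ly_sq, ly_sq, one_mul]
    · rw [map_mul, map_ly, map_ly, map_ly, Ym_add]
  · intro t u ht
    apply lift_unique c ψ hodd (conj_sq (lx_sq ψ hsurj hodd _)) (ly_sq ψ hsurj hodd _)
    rw [map_ly, ← hS.w_x t u ht]
    simp only [map_mul, map_inv, map_lx, map_ly]
  · intro t u ht
    apply lift_unique c ψ hodd (conj_sq (ly_sq ψ hsurj hodd _)) (lx_sq ψ hsurj hodd _)
    rw [map_lx, ← hS.w_y t u ht]
    simp only [map_mul, map_inv, map_lx, map_ly]

section Section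

variable [Fintype F]

include c hsurj hodd in
/-- The cover splits. -/
theorem exists_section : ∃ s : SL(2, F) →* G, ∀ v, ψ (s v) = v := by
  classical
  let S₀ : Set G := Set.range (lx ψ hsurj hodd) ∪ Set.range (ly ψ hsurj hodd)
  let G₀ : Subgroup G := Subgroup.closure S₀
  let x' : F → G₀ := fun t => ⟨lx ψ hsurj hodd t, Subgroup.subset_closure (Or.inl ⟨t, rfl⟩)⟩
  let y' : F → G₀ := fun t => ⟨ly ψ hsurj hodd t, Subgroup.subset_closure (Or.inr ⟨t, rfl⟩)⟩
  let φ : G₀ →* SL(2, F) := ψ.comp G₀.subtype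
  have hS₀ := lift_sys c ψ hsurj hodd
  have hS : Sys x' y' := by
    refine ⟨?_, ?_, ?_, ?_⟩
    · intro t u
      exact Subtype.ext (hS₀.add_x t u)
    · intro t u
      exact Subtype.ext (hS₀.add_y t u)
    · intro t u ht
      exact Subtype.ext (hS₀.w_x t u ht)
    · intro t u ht
      exact Subtype.ext (hS₀.w_y t u ht)
  have hx : ∀ t, φ (x' t) = Xm t := fun t => map_lx ψ hsurj hodd t
  have hy : ∀ t, φ (y' t) = Ym t := fun t => map_ly ψ hsurj hodd t
  have hgen : Subgroup.closure (Set.range x' ∪ Set.range y') = ⊤ := by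
    have h1 : Set.range x' ∪ Set.range y' = ((↑) : G₀ → G) ⁻¹' S₀ := by
      ext ⟨g, hg⟩
      constructor
      · rintro (⟨t, ht⟩ | ⟨t, ht⟩)
        · exact Or.inl ⟨t, congrArg Subtype.val ht⟩
        · exact Or.inr ⟨t, congrArg Subtype.val ht⟩
      · rintro (⟨t, ht⟩ | ⟨t, ht⟩)
        · exact Or.inl ⟨t, Subtype.ext ht⟩
        · exact Or.inr ⟨t, Subtype.ext ht⟩
    rw [h1]
    exact Subgroup.closure_closure_coe_preimage
  have hinj := φ_injective hS φ hx hy hgen
  have hsurj' : Function.Surjective φ := by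
    apply sl2_induction
    · intro t
      exact ⟨x' t, hx t⟩
    · intro t
      exact ⟨y' t, hy t⟩
    · rintro A B ⟨a, rfl⟩ ⟨b, rfl⟩
      exact ⟨a * b, map_mul _ _ _⟩
  let e := MulEquiv.ofBijective φ ⟨hinj, hsurj'⟩
  refine ⟨G₀.subtype.comp e.symm.toMonoidHom, fun v => ?_⟩
  exact e.apply_symm_apply v

include c hsurj hodd in
/-- The cover is a direct product. -/
theorem prod_equiv : Nonempty (G ≃* SL(2, F) × ψ.ker) := by
  obtain ⟨s, hs⟩ := exists_section c ψ hsurj hodd
  have hcomm : ∀ (v : SL(2, F)) (k : ψ.ker), Commute (s v) (ψ.ker.subtype k) := by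
    intro v k
    exact ker_central c ψ hsurj hodd k.2 (s v)
  let Φ := MonoidHom.noncommCoprod s ψ.ker.subtype hcomm
  have hΦ : ∀ p, Φ p = s p.1 * (p.2 : G) := fun p => rfl
  have hb : Function.Bijective Φ := by
    constructor
    · rintro ⟨v, k⟩ ⟨v', k'⟩ h
      rw [hΦ, hΦ] at h
      have h1 := congrArg ψ h
      simp only [map_mul, hs] at h1
      have hk : ψ (k : G) = 1 := k.2
      have hk' : ψ (k' : G) = 1 := k'.2
      rw [hk, hk', mul_one, mul_one] at h1
      subst h1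
      have h2 : (k : G) = k' := mul_left_cancel h
      exact Prod.ext rfl (Subtype.ext h2)
    · intro g
      have hk : (s (ψ g))⁻¹ * g ∈ ψ.ker := by
        rw [MonoidHom.mem_ker, map_mul, map_inv, hs, inv_mul_cancel]
      refine ⟨(ψ g, ⟨_, hk⟩), ?_⟩
      rw [hΦ]
      group
  exact ⟨(MulEquiv.ofBijective Φ hb).symm⟩

include ψ hsurj hodd in
/-- The number of involutions in a cover. -/
theorem card_invol_ge : 2 * (Fintype.card F - 1) ≤ Nat.card {t : G // orderOf t = 2} := by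
  classical
  have hne : ∀ t : {t : F // t ≠ 0}, lx ψ hsurj hodd t.1 ≠ 1 := by
    intro t h
    have := map_lx ψ hsurj hodd t.1
    rw [h, map_one] at this
    exact Xm_ne_one t.2 this.symm
  have hne' : ∀ t : {t : F // t ≠ 0}, ly ψ hsurj hodd t.1 ≠ 1 := by
    intro t h
    have := map_ly ψ hsurj hodd t.1
    rw [h, map_one] at this
    exact Ym_ne_one t.2 this.symm
  let f : {t : F // t ≠ 0} ⊕ {t : F // t ≠ 0} → {t : G // orderOf t = 2} := fun p =>
    match p with
    | Sum.inl t => ⟨lx ψ hsurj hodd t.1, order_of_mul_self (lx_sq ψ hsurj hodd _) (hne t)⟩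
    | Sum.inr t => ⟨ly ψ hsurj hodd t.1, order_of_mul_self (ly_sq ψ hsurj hodd _) (hne' t)⟩
  have hf : Function.Injective f := by
    rintro (t | t) (u | u) h
    · have h1 : lx ψ hsurj hodd t.1 = lx ψ hsurj hodd u.1 := congrArg Subtype.val h
      have h2 := congrArg ψ h1
      rw [map_lx, map_lx] at h2
      rw [Subtype.ext (Xm_inj h2)]
    · exfalso
      have h1 : lx ψ hsurj hodd t.1 = ly ψ hsurj hodd u.1 := congrArg Subtype.val h
      have h2 := congrArg ψ h1
      rw [map_lx, map_ly] at h2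
      exact Xm_ne_Ym t.2 h2
    · exfalso
      have h1 : ly ψ hsurj hodd t.1 = lx ψ hsurj hodd u.1 := congrArg Subtype.val h
      have h2 := congrArg ψ h1
      rw [map_lx, map_ly] at h2
      exact Xm_ne_Ym u.2 h2.symm
    · have h1 : ly ψ hsurj hodd t.1 = ly ψ hsurj hodd u.1 := congrArg Subtype.val h
      have h2 := congrArg ψ h1
      rw [map_ly, map_ly] at h2
      rw [Subtype.ext (Ym_inj h2)]
  have h1 := Nat.card_le_card_of_injective f hf
  rw [Nat.card_sum] at h1
  have h2 : Nat.card (Option {t : F // t ≠ 0}) = Nat.card F :=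
    Nat.card_congr (Equiv.optionSubtypeNe (0 : F))
  rw [Finite.card_option, Nat.card_eq_fintype_card (α := F)] at h2
  omega

end Section

end Cfsg.Agent.Lib.CAInv.Lift
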