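import Cfsg.Agent.Lib.CAInv.CaseII

/-!
# Groups in which the centraliser of every involution is abelian
-/

set_option autoImplicit false
set_option linter.unusedSectionVars false
set_option linter.style.haveILetI false
set_option linter.unusedVariables false

open scoped MatrixGroups

namespace Cfsg.Agent.Lib.CAInv.Main

open Act Basic Basic.Ctx MulAction Lift CaseII
open Cfsg.Agent.Lib.Classical.StSL2 Cfsg.Agent.Lib.CAInv.SL2

universe u

section Cover

variable {G : Type u} [Group G] [Finite G] {H : Type u} [Group H] (c : Ctx G) (π : G →* H)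
  (hsurj : Function.Surjective π) (hodd : Odd (Nat.card π.ker))

include c hsurj hodd

theorem hyp_of_cover : Hyp H := by
  intro t' ht'
  have ht'1 := mul_self_of_order ht'
  obtain ⟨t, ht1, htt⟩ := lift_exists π hsurj hodd ht'1
  have ht2 : orderOf t = 2 := by
    apply order_of_mul_self ht1
    rintro rfl
    rw [map_one] at htt
    exact ne_one_of_order ht' htt.symm
  have key : ∀ a' : G, π a' * t' = t' * π a' → a' * t = t * a' := by
    intro a' ha'
    have h1 : a' * t * a'⁻¹ = t := by
      apply lift_unique c π hodd (conj_sq ht1) ht1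
      rw [map_mul, map_mul, map_inv, htt, ha']
      group
    exact mul_inv_eq_iff_eq_mul.mp h1
  refine ⟨⟨?_⟩⟩
  rintro ⟨a, ha⟩ ⟨b, hb⟩
  obtain ⟨a', rfl⟩ := hsurj a
  obtain ⟨b', rfl⟩ := hsurj b
  have ha' := mem_centralizer_iff'.mp ha
  have hb' := mem_centralizer_iff'.mp hb
  have h := c.hyp.comm ht2 (key a' ha') (key b' hb')
  apply Subtype.ext
  show π a' * π b' = π b' * π a'
  rw [← map_mul, ← map_mul, h]

theorem eq_one_of_map_eq_one {P : Sylow 2 G} {p : G} (hp : p ∈ P) (h : π p = 1) : p = 1 :=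
  odd_eq_one_of_mem_sylow hp (odd_orderOf_of_mem_ker π hodd h)

theorem nc_of_cover : ∀ P : Sylow 2 H, ¬ IsCyclic P := by
  haveI : Finite H := Finite.of_surjective π hsurj
  obtain ⟨P₀⟩ : Nonempty (Sylow 2 G) := inferInstance
  apply nc_of_one (P₀ := P₀.mapSurjective hsurj)
  intro hcyc
  apply c.nc P₀
  have hcyc' : IsCyclic ((P₀ : Subgroup G).map π) := hcyc
  let e := π.subgroupMap (P₀ : Subgroup G)
  have hb : Function.Bijective e := by
    constructor
    · rw [injective_iff_map_eq_one]
      rintro ⟨p, hp⟩ h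
      have h1 : π p = 1 := congrArg Subtype.val h
      exact Subtype.ext (eq_one_of_map_eq_one c π hsurj hodd hp h1)
    · exact π.subgroupMap_surjective _
  let e' := MulEquiv.ofBijective e hb
  exact isCyclic_of_surjective e'.symm e'.symm.surjective

theorem nn_of_cover : Nontrivial (Sylow 2 H) := by
  haveI : Finite H := Finite.of_surjective π hsurj
  have hn := c.nn
  obtain ⟨P, Q, hPQ⟩ := exists_pair_ne (Sylow 2 G)
  refine ⟨⟨P.mapSurjective hsurj, Q.mapSurjective hsurj, ?_⟩⟩
  intro h
  apply hPQ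
  obtain ⟨t, ht, ht2⟩ := c.exists_invol Q
  have ht1 := mul_self_of_order ht2
  have h1 : π t ∈ (P : Subgroup G).map π := by
    have h2 : π t ∈ Q.mapSurjective hsurj := Subgroup.mem_map_of_mem π ht
    rw [← h] at h2
    exact h2
  obtain ⟨p, hp, hpt⟩ := Subgroup.mem_map.mp h1
  have hpp : p * p = 1 := by
    apply eq_one_of_map_eq_one c π hsurj hodd (P := P) ((P : Subgroup G).mul_mem hp hp)
    rw [map_mul, hpt, ← map_mul, ht1, map_one]
  have heq : p = t := lift_unique c π hodd hpp ht1 hpt
  subst heq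
  exact sylow_eq_of_invol c.hyp ht2 hp ht

theorem ctx_of_cover : Ctx H :=
  ⟨hyp_of_cover c π hsurj hodd, nc_of_cover c π hsurj hodd, nn_of_cover c π hsurj hodd⟩

end Cover

theorem odd_card_of_forall {G : Type*} [Group G] [Finite G] (K : Subgroup G)
    (h : ∀ x ∈ K, Odd (orderOf x)) : Odd (Nat.card K) := by
  by_contra hcon
  rw [Nat.not_odd_iff_even] at hcon
  obtain ⟨⟨g, hg⟩, hgo⟩ := exists_prime_orderOf_dvd_card' (G := K) 2 hcon.two_dvd
  have hgo' : orderOf g = 2 := by simpa using hgo
  have := h g hg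
  rw [hgo'] at this
  exact absurd this (by decide)

theorem concl_of_cover {G : Type u} [Group G] [Finite G] {H : Type u} [Group H]
    (π : G →* H) (hsurj : Function.Surjective π) (hodd : Odd (Nat.card π.ker)) (hC : Concl H) :
    Concl G := by
  haveI : Finite H := Finite.of_surjective π hsurj
  obtain ⟨F, i1, i2, ψ, hchar, hs, ho⟩ := hC
  refine ⟨F, i1, i2, ψ.comp π, hchar, hs.comp hsurj, ?_⟩
  apply odd_card_of_forall
  intro x hx
  have hx1 : π x ∈ ψ.ker := hx
  have hm := odd_orderOf_of_mem_ker ψ ho hx1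
  have hx2 : x ^ orderOf (π x) ∈ π.ker := by
    rw [MonoidHom.mem_ker, map_pow, pow_orderOf_eq_one]
  have hl := odd_orderOf_of_mem_ker π hodd hx2
  apply Odd.of_dvd_nat (hm.mul hl)
  apply orderOf_dvd_of_pow_eq_one
  rw [pow_mul, pow_orderOf_eq_one]

/-- A type without any structure on it. -/
def Carrier (n : ℕ) : Type := Fin n

instance (n : ℕ) : Finite (Carrier n) := inferInstanceAs (Finite (Fin n))

theorem card_Carrier (n : ℕ) : Nat.card (Carrier n) = n := by
  show Nat.card (Fin n) = n
  simp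

/-- **The main induction.** -/
theorem concl_of_ctx : ∀ (n : ℕ) (G : Type u) [Group G] [Finite G], Nat.card G = n → Ctx G →
    Concl G := by
  intro n
  induction n using Nat.strong_induction_on with
  | _ n ih =>
    intro G _ _ hn c
    classical
    by_cases hN : ∃ N : Subgroup G, N.Normal ∧ Odd (Nat.card N) ∧ N ≠ ⊥
    · obtain ⟨N, hNn, hNo, hNb⟩ := hN
      haveI := hNn
      let π := QuotientGroup.mk' N
      have hker : π.ker = N := QuotientGroup.ker_mk' N
      have hodd : Odd (Nat.card π.ker) := by rwa [hker]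
      have hsurj : Function.Surjective π := QuotientGroup.mk'_surjective N
      have cH := ctx_of_cover c π hsurj hodd
      have hlt : Nat.card (G ⧸ N) < n := by
        have h1 := Subgroup.card_eq_card_quotient_mul_card_subgroup N
        have h2 : 1 < Nat.card N := (Subgroup.one_lt_card_iff_ne_bot N).mpr hNb
        have h3 : 0 < Nat.card (G ⧸ N) := Nat.card_pos
        rw [← hn, h1]
        nlinarith
      exact concl_of_cover π hsurj hodd (ih _ hlt (G ⧸ N) rfl cH)
    · have hN' : ∀ N : Subgroup G, N.Normal → Odd (Nat.card N) → N = ⊥ := by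
        intro N h1 h2
        by_contra h3
        exact hN ⟨N, h1, h2, h3⟩
      by_cases hTI : ∀ P Q : Sylow 2 G, P ≠ Q → ∀ x, x ∈ K c P → x ∈ K c Q → x = 1
      · obtain ⟨F, i1, i2, hchar, ⟨e⟩⟩ := CaseI2.caseI_main c hTI hN'
        refine ⟨F, i1, i2, e.toMonoidHom, hchar, e.surjective, ?_⟩
        have : e.toMonoidHom.ker = ⊥ := MonoidHom.ker_eq_bot_iff _ |>.mpr e.injective
        rw [this, Subgroup.card_bot]
        exact odd_one
      · push Not at hTI
        obtain ⟨P, Q, hPQ, x, hxP, hxQ, hx1⟩ := hTI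
        exfalso
        refine caseII_false c hN' ?_ hPQ hxP hxQ hx1
        intro Y hY cY
        have hlt : Nat.card Y < n := by
          have h1 := Y.card_mul_index
          have h2 : 1 < Y.index := Subgroup.one_lt_index_of_ne_top hY
          have h3 : 0 < Nat.card Y := Nat.card_pos
          rw [← hn, ← h1]
          nlinarith
        exact ih _ hlt Y rfl cY

/-- **Theorem.** -/
theorem main {G : Type u} [Group G] [Finite G]
    (h : ∀ t : G, orderOf t = 2 → IsMulCommutative ↥(Subgroup.centralizer ({t} : Set G))) :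
    (∀ P : Sylow 2 G, IsCyclic ↥P) ∨ (∀ P : Sylow 2 G, (P : Subgroup G).Normal) ∨
    (∃ (F : Type) (_ : Field F) (_ : Fintype F) (A : Type) (_ : CommGroup A) (_ : Finite A),
      CharP F 2 ∧ Odd (Nat.card A) ∧ Nonempty (G ≃* Matrix.SpecialLinearGroup (Fin 2) F × A)) := by
  by_cases hcyc : ∀ P : Sylow 2 G, IsCyclic ↥P
  · exact Or.inl hcyc
  by_cases hnor : ∀ P : Sylow 2 G, (P : Subgroup G).Normal
  · exact Or.inr (Or.inl hnor)
  right; right
  push Not at hcyc hnor
  obtain ⟨P₀, hP₀⟩ := hcyc
  obtain ⟨P₁, hP₁⟩ := hnor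
  have c : Ctx G := by
    refine ⟨h, nc_of_one hP₀, ?_⟩
    by_contra hnn
    rw [not_nontrivial_iff_subsingleton] at hnn
    exact hP₁ (Sylow.normal_of_subsingleton P₁)
  obtain ⟨F, i1, i2, ψ, hchar, hsurj, hodd⟩ := concl_of_ctx _ G rfl c
  obtain ⟨e⟩ := prod_equiv c ψ hsurj hodd
  let iCG : CommGroup ψ.ker :=
    { (inferInstance : Group ψ.ker) with
      mul_comm := by
        intro a b
        apply Subtype.ext
        exact ker_central c ψ hsurj hodd b.2 (a : G) }
  let e₀ : ψ.ker ≃ Carrier (Nat.card ψ.ker) := Finite.equivFin ψ.ker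
  let iA : CommGroup (Carrier (Nat.card ψ.ker)) := e₀.symm.commGroup
  let e₁ : Carrier (Nat.card ψ.ker) ≃* ψ.ker :=
    { e₀.symm with map_mul' := fun a b => e₀.symm.apply_symm_apply _ }
  refine ⟨F, i1, i2, Carrier (Nat.card ψ.ker), iA, inferInstance, hchar, ?_, ?_⟩
  · rwa [card_Carrier]
  · exact ⟨e.trans (MulEquiv.prodCongr (MulEquiv.refl _) e₁.symm)⟩

end Cfsg.Agent.Lib.CAInv.Main
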