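import Cfsg.Agent.Lib.CAInv.CaseI2
import Cfsg.Agent.Lib.Classical.StSL2
import Cfsg.Agent.Lib.Classical.SL2.Tori

/-!
# `SL(2, F)` in characteristic two
-/

set_option autoImplicit false
set_option linter.unusedSectionVars false
set_option linter.style.haveILetI false
set_option linter.unusedVariables false

open scoped MatrixGroups

namespace Cfsg.Agent.Lib.CAInv.SL2

open Cfsg.Agent.Lib.Classical.StSL2

variable {F : Type*} [Field F] [CharP F 2]

theorem det_eq (A : SL(2, F)) : A 0 0 * A 1 1 + A 0 1 * A 1 0 = 1 := by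
  have h := A.det_coe
  rw [Matrix.det_fin_two] at h
  have h2 : (2 : F) = 0 := CharTwo.two_eq_zero
  calc A 0 0 * A 1 1 + A 0 1 * A 1 0 = (A.1 0 0 * A.1 1 1 - A.1 0 1 * A.1 1 0) + 2 * (A 0 1 * A 1 0) := by
        show _ = (A 0 0 * A 1 1 - A 0 1 * A 1 0) + 2 * (A 0 1 * A 1 0)
        ring
    _ = 1 := by rw [h, h2]; ring

/-- Anything commuting with an involution of `SL(2, F)` has square one. -/
theorem sq_eq_one_of_commute {v x : SL(2, F)} (hv : v * v = 1) (hv1 : v ≠ 1) (hc : x * v = v * x) :
    x * x = 1 := by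
  have h2 : (2 : F) = 0 := CharTwo.two_eq_zero
  have e00 : v 0 0 * v 0 0 + v 0 1 * v 1 0 = 1 := by
    have : (v * v) 0 0 = (1 : SL(2, F)) 0 0 := by rw [hv]
    rw [mul_entry] at this
    simpa using this
  have e11 : v 1 0 * v 0 1 + v 1 1 * v 1 1 = 1 := by
    have : (v * v) 1 1 = (1 : SL(2, F)) 1 1 := by rw [hv]
    rw [mul_entry] at this
    simpa using this
  have had : v 0 0 = v 1 1 := by
    have h3 : (v 0 0 + v 1 1) ^ 2 = 0 := by
      linear_combination e00 + e11 + (v 0 0 * v 1 1 - v 0 1 * v 1 0 + 1) * h2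
    have h4 : v 0 0 + v 1 1 = 0 := pow_eq_zero_iff two_ne_zero |>.mp h3
    have h5 : v 0 0 = - v 1 1 := eq_neg_of_add_eq_zero_left h4
    rw [h5, CharTwo.neg_eq]
  have c00 : x 0 1 * v 1 0 = v 0 1 * x 1 0 := by
    have : (x * v) 0 0 = (v * x) 0 0 := by rw [hc]
    rw [mul_entry, mul_entry] at this
    linear_combination this
  have c01 : v 0 1 * (x 0 0 + x 1 1) = 0 := by
    have : (x * v) 0 1 = (v * x) 0 1 := by rw [hc]
    rw [mul_entry, mul_entry] at this
    rw [← had] at this
    linear_combination this + (v 0 1 * x 1 1) * h2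
  have c10 : v 1 0 * (x 0 0 + x 1 1) = 0 := by
    have : (x * v) 1 0 = (v * x) 1 0 := by rw [hc]
    rw [mul_entry, mul_entry] at this
    rw [← had] at this
    linear_combination -this + (v 1 0 * x 1 1) * h2
  have hps : x 0 0 + x 1 1 = 0 := by
    by_contra hne
    have hb : v 0 1 = 0 := (mul_eq_zero.mp c01).resolve_right hne
    have hc' : v 1 0 = 0 := (mul_eq_zero.mp c10).resolve_right hne
    apply hv1
    rw [hb, zero_mul, add_zero] at e00
    have ha1 : (v 0 0 + 1) ^ 2 = 0 := by
      linear_combination e00 + (v 0 0 + 1) * h2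
    have ha2 : v 0 0 + 1 = 0 := pow_eq_zero_iff two_ne_zero |>.mp ha1
    have ha3 : v 0 0 = 1 := by
      have h5 : v 0 0 = - 1 := eq_neg_of_add_eq_zero_left ha2
      rw [h5, CharTwo.neg_eq]
    apply sl_ext
    · rw [ha3]; simp
    · rw [hb]; simp
    · rw [hc']; simp
    · rw [← had, ha3]; simp
  have hps' : x 1 1 = x 0 0 := by
    have h5 : x 1 1 = - x 0 0 := eq_neg_of_add_eq_zero_right hps
    rw [h5, CharTwo.neg_eq]
  have hdet := det_eq x
  rw [hps'] at hdet
  apply sl_ext
  · rw [mul_entry]
    simp only [Matrix.SpecialLinearGroup.coe_one, Matrix.one_apply_eq]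
    linear_combination hdet
  · rw [mul_entry]
    simp only [Matrix.SpecialLinearGroup.coe_one]
    rw [hps']
    simp
    linear_combination (x 0 1 * x 0 0) * h2
  · rw [mul_entry]
    simp only [Matrix.SpecialLinearGroup.coe_one]
    rw [hps']
    simp
    linear_combination (x 1 0 * x 0 0) * h2
  · rw [mul_entry]
    simp only [Matrix.SpecialLinearGroup.coe_one, Matrix.one_apply_eq]
    rw [hps']
    linear_combination hdet

theorem Xm_zero' : (Xm (0 : F)) = 1 := (sys_matrices (K := F)).x_zero
theorem Ym_zero' : (Ym (0 : F)) = 1 := (sys_matrices (K := F)).y_zero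

theorem Xm_sq (t : F) : Xm t * Xm t = 1 := by
  rw [← Xm_add, CharTwo.add_self_eq_zero, Xm_zero']

theorem Ym_sq (t : F) : Ym t * Ym t = 1 := by
  rw [← Ym_add, CharTwo.add_self_eq_zero, Ym_zero']

theorem Xm_ne_one {t : F} (ht : t ≠ 0) : Xm t ≠ 1 := by
  intro h
  have : (Xm t) 0 1 = (1 : SL(2, F)) 0 1 := by rw [h]
  simp at this
  exact ht this

theorem Ym_ne_one {t : F} (ht : t ≠ 0) : Ym t ≠ 1 := by
  intro h
  have : (Ym t) 1 0 = (1 : SL(2, F)) 1 0 := by rw [h]
  simp at this
  exact ht this

theorem Xm_inj {t u : F} (h : Xm t = Xm u) : t = u := by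
  have : (Xm t) 0 1 = (Xm u) 0 1 := by rw [h]
  simpa using this

theorem Ym_inj {t u : F} (h : Ym t = Ym u) : t = u := by
  have : (Ym t) 1 0 = (Ym u) 1 0 := by rw [h]
  simpa using this

theorem Xm_ne_Ym {t u : F} (ht : t ≠ 0) : Xm t ≠ Ym u := by
  intro h
  have : (Xm t) 0 1 = (Ym u) 0 1 := by rw [h]
  simp at this
  exact ht this

omit [CharP F 2] in
/-- `SL(2, F)` is generated by the two root subgroups. -/
theorem sl2_induction (P : SL(2, F) → Prop) (hx : ∀ t, P (Xm t)) (hy : ∀ t, P (Ym t))
    (hmul : ∀ A B, P A → P B → P (A * B)) (M : SL(2, F)) : P M := by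
  refine Cfsg.Agent.Lib.Classical.Transvections.transvection_induction P M ?_ hmul
  intro i j hij a
  fin_cases i <;> fin_cases j
  · exact absurd rfl hij
  · have : Matrix.SpecialLinearGroup.transvection hij a = Xm a := by
      apply Subtype.ext
      ext p q
      fin_cases p <;> fin_cases q <;>
        simp [Xm, Matrix.SpecialLinearGroup.transvection, Matrix.transvection, Matrix.single]
    rw [this]
    exact hx a
  · have : Matrix.SpecialLinearGroup.transvection hij a = Ym a := by
      apply Subtype.ext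
      ext p q
      fin_cases p <;> fin_cases q <;>
        simp [Ym, Matrix.SpecialLinearGroup.transvection, Matrix.transvection, Matrix.single]
    rw [this]
    exact hy a
  · exact absurd rfl hij

/-- An odd-order normaliser of a Sylow `2`-subgroup acts freely on its non-identity elements. -/
theorem card_add_one_le_of_normalizer {S : Type*} [Group S] [Finite S]
    (hcent : ∀ v x : S, v * v = 1 → v ≠ 1 → x * v = v * x → x * x = 1) (P : Sylow 2 S)
    [Nontrivial P] (K : Subgroup S) (hK : K ≤ Subgroup.normalizer (P : Set S))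
    (hodd : Odd (Nat.card K)) : Nat.card K + 1 ≤ Nat.card P := by
  classical
  obtain ⟨t, ht, ht2, -⟩ := Basic.exists_central_invol P
  have ht1 := Act.mul_self_of_order ht2
  have hm : ∀ k : K, (k : S) * t * (k : S)⁻¹ ∈ P := by
    rintro ⟨k, hk⟩
    exact (Subgroup.mem_normalizer_iff.mp (hK hk) t).mp ht
  have hne : ∀ k : K, (⟨_, hm k⟩ : P) ≠ 1 := by
    rintro ⟨k, hk⟩ h
    have h2 : k * t * k⁻¹ = 1 := congrArg Subtype.val h
    have h3 : t = 1 := by
      have h4 : k * t = k := mul_inv_eq_one.mp h2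
      exact mul_eq_left.mp h4
    exact Act.ne_one_of_order ht2 h3
  let f : K → {x : P // x ≠ 1} := fun k => ⟨⟨_, hm k⟩, hne k⟩
  have hf : Function.Injective f := by
    rintro ⟨k, hk⟩ ⟨k', hk'⟩ h
    have h2 : k * t * k⁻¹ = k' * t * k'⁻¹ :=
      congrArg (fun x : {x : P // x ≠ 1} => ((x.1 : P) : S)) h
    have h3 : (k⁻¹ * k') * t = t * (k⁻¹ * k') := by
      have : k' * t = k * t * k⁻¹ * k' := by rw [h2]; group
      calc k⁻¹ * k' * t = k⁻¹ * (k' * t) := by group
        _ = k⁻¹ * (k * t * k⁻¹ * k') := by rw [this]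
        _ = t * (k⁻¹ * k') := by group
    have h4 := hcent t (k⁻¹ * k') ht1 (Act.ne_one_of_order ht2) h3
    have hmem : k⁻¹ * k' ∈ K := K.mul_mem (K.inv_mem hk) hk'
    have ho : Odd (orderOf (k⁻¹ * k')) := by
      have h5 : orderOf (⟨_, hmem⟩ : K) ∣ Nat.card K := orderOf_dvd_natCard _
      rw [Subgroup.orderOf_mk] at h5
      exact Odd.of_dvd_nat hodd h5
    have h6 := CaseI.eq_one_of_mul_self ho h4
    exact Subtype.ext (inv_mul_eq_one.mp h6)
  have h1 := Nat.card_le_card_of_injective f hf
  have h2 : Nat.card (Option {x : P // x ≠ 1}) = Nat.card P :=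
    Nat.card_congr (Equiv.optionSubtypeNe (1 : P))
  rw [Finite.card_option] at h2
  omega

/-- **Odd-order subgroups of `SL(2, F)` in characteristic two are small.** -/
theorem card_le_of_odd [Fintype F] (W : Subgroup (SL(2, F))) (hW : Odd (Nat.card W)) :
    Nat.card W ≤ Fintype.card F + 1 := by
  classical
  obtain ⟨e⟩ := CaseI2.psl_equiv_sl F
  obtain ⟨q, hq⟩ : ∃ q, q = Fintype.card F := ⟨_, rfl⟩
  rw [← hq]
  have hq1 : 1 < q := hq ▸ Fintype.one_lt_card
  have hqe : q % 2 = 0 := by
    rw [hq]
    exact FiniteField.even_card_iff_char_two.mp (ringChar.eq F 2)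
  have hgcd : Nat.gcd 2 (q - 1) = 1 := by
    apply Nat.coprime_two_left.mpr
    rw [Nat.odd_iff]
    omega
  let H : Subgroup (Matrix.ProjectiveSpecialLinearGroup (Fin 2) F) := W.map e.symm.toMonoidHom
  have hHW : Nat.card W = Nat.card H := Nat.card_congr (e.symm.subgroupMap W).toEquiv
  rw [hHW]
  rw [hHW] at hW
  haveI : Fact (Nat.Prime 2) := ⟨Nat.prime_two⟩
  have hnotodd : ∀ n, Nat.card H = n → Even n → False := by
    intro n hn hen
    rw [hn] at hW
    exact (Nat.not_even_iff_odd.mpr hW) hen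
  rcases Cfsg.Agent.Lib.Classical.SL2.Dickson.dickson hq.symm 2 H with
    ⟨k, hk, hc⟩ | ⟨P, K₁, hK₁, ⟨iso⟩⟩ | iso | iso | iso | ⟨K', i1, i2, m, hm, hiso⟩
  · rw [hgcd, Nat.div_one, Nat.div_one] at hk
    have hkle : k ≤ q + 1 := by
      rcases hk with h | h
      · exact Nat.le_of_dvd (by omega) h
      · have := Nat.le_of_dvd (by omega) h
        omega
    rcases hc with ⟨-, h⟩ | iso
    · rw [h]
      exact hkle
    · obtain ⟨iso⟩ := iso
      exfalso
      apply hnotodd (2 * k)
      · rw [Nat.card_congr iso.toEquiv, DihedralGroup.nat_card]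
      · exact even_two_mul k
  · have hcent : ∀ v x : Matrix.ProjectiveSpecialLinearGroup (Fin 2) F, v * v = 1 → v ≠ 1 →
        x * v = v * x → x * x = 1 := by
      intro v x hv hv1 hc
      apply e.injective
      rw [map_mul, map_one]
      apply sq_eq_one_of_commute (v := e v)
      · rw [← map_mul, hv, map_one]
      · intro h
        exact hv1 (e.injective (by rw [h, map_one]))
      · rw [← map_mul, ← map_mul, hc]
    have hcardS : Nat.card (Matrix.ProjectiveSpecialLinearGroup (Fin 2) F) =
        q * ((q - 1) * (q + 1)) := by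
      have := Cfsg.Agent.Lib.Classical.SL2.Tori.card_psl (F := F)
      rw [← hq, hgcd, mul_one] at this
      exact this
    have h2S : 2 ∣ Nat.card (Matrix.ProjectiveSpecialLinearGroup (Fin 2) F) := by
      rw [hcardS]
      exact Dvd.dvd.mul_right (Nat.dvd_of_mod_eq_zero hqe) _
    haveI : Nontrivial P := by
      have := P.ne_bot_of_dvd_card h2S
      exact (Subgroup.nontrivial_iff_ne_bot _).mpr this
    have hK₁odd : Odd (Nat.card K₁) := by
      rw [← Nat.card_congr iso.toEquiv]
      exact hW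
    have h1 := card_add_one_le_of_normalizer hcent P K₁ hK₁ hK₁odd
    have hPq : Nat.card P ≤ q := by
      obtain ⟨n, hn⟩ := IsPGroup.iff_card.mp (P.isPGroup' : IsPGroup 2 P)
      obtain ⟨f, hf⟩ := FiniteField.card F 2
      obtain ⟨-, hf2⟩ := hf
      have hdvd : Nat.card P ∣ q * ((q - 1) * (q + 1)) := by
        rw [← hcardS]
        exact Subgroup.card_subgroup_dvd_card _
      have hcop : Nat.Coprime (Nat.card P) ((q - 1) * (q + 1)) := by
        rw [hn]
        apply Nat.Coprime.pow_left
        apply Nat.coprime_two_left.mpr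
        apply Odd.mul
        · rw [Nat.odd_iff]; omega
        · rw [Nat.odd_iff]; omega
      exact Nat.le_of_dvd (by omega) (hcop.dvd_of_dvd_mul_right hdvd)
    rw [Nat.card_congr iso.toEquiv]
    omega
  · obtain ⟨iso⟩ := iso
    exfalso
    apply hnotodd 12
    · rw [Nat.card_congr iso.toEquiv]
      have h3 := two_mul_nat_card_alternatingGroup (α := Fin 4)
      rw [Nat.card_perm, Nat.card_eq_fintype_card (α := Fin 4), Fintype.card_fin] at h3
      have h4 : Nat.factorial 4 = 24 := rfl
      omega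
    · decide
  · obtain ⟨iso⟩ := iso
    exfalso
    apply hnotodd 24
    · rw [Nat.card_congr iso.toEquiv, Nat.card_perm]
      simp
      rfl
    · decide
  · obtain ⟨iso⟩ := iso
    exfalso
    apply hnotodd 60
    · rw [Nat.card_congr iso.toEquiv]
      have h3 := two_mul_nat_card_alternatingGroup (α := Fin 5)
      rw [Nat.card_perm, Nat.card_eq_fintype_card (α := Fin 5), Fintype.card_fin] at h3
      have h4 : Nat.factorial 5 = 120 := rfl
      omega
    · decide
  · exfalso
    have hm0 : m ≠ 0 := by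
      rintro rfl
      rw [pow_zero] at hm
      omega
    have he : Even (Fintype.card K' ^ m) := by
      rw [hm, Nat.even_iff]
      exact hqe
    have he' : Even (Fintype.card K') := (Nat.even_pow.mp he).1
    have hq'1 : 1 < Fintype.card K' := Fintype.one_lt_card
    rcases hiso with iso | iso
    · obtain ⟨iso⟩ := iso
      apply hnotodd (Nat.card (Matrix.ProjectiveSpecialLinearGroup (Fin 2) K'))
      · exact Nat.card_congr iso.toEquiv
      · have h1 := Cfsg.Agent.Lib.Classical.SL2.Tori.card_psl (F := K')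
        have h2 : Nat.gcd 2 (Fintype.card K' - 1) = 1 := by
          apply Nat.coprime_two_left.mpr
          rw [Nat.odd_iff]
          rw [Nat.even_iff] at he'
          omega
        rw [h2, mul_one] at h1
        rw [h1]
        exact he'.mul_right _
    · obtain ⟨iso⟩ := iso
      apply hnotodd (Nat.card (Matrix.ProjGenLinGroup (Fin 2) K'))
      · exact Nat.card_congr iso.toEquiv
      · rw [Cfsg.Agent.Lib.Classical.SL2.Tori.card_pgl]
        exact he'.mul_right _

end Cfsg.Agent.Lib.CAInv.SL2
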